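import Mathlib
import Cfsg.Prelude.Def_OddOrderLocal

/-!
Coordinates in a finite metacyclic `p`-group for odd `p`: every element is `a ^ i * b ^ j`, with
`a ^ k` and `b ^ l` commuting exactly when `p ^ n ∣ k * l`.
-/

namespace Cfsg.Agent.Grp.Metacyclic

open Finset
open scoped commutatorElement

section arith

variable {p : ℕ}

theorem geom_prime (hp : p.Prime) (hp2 : p ≠ 2) (t : ℤ) :
    ∃ w : ℤ, ∑ k ∈ range p, (1 + (p : ℤ) * t) ^ k = p * (1 + p * w) := by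
  have hk : ∀ k : ℕ, ∃ z : ℤ, (1 + (p : ℤ) * t) ^ k = 1 + k * p * t + (p : ℤ) ^ 2 * z := by
    intro k
    induction k with
    | zero => exact ⟨0, by simp⟩
    | succ k ih =>
      obtain ⟨z, hz⟩ := ih
      refine ⟨z + k * t * t + p * t * z, ?_⟩
      rw [pow_succ, hz]
      push_cast
      ring
  choose z hz using hk
  obtain ⟨h, hh⟩ : ∃ h, p = 2 * h + 1 := hp.odd_of_ne_two hp2
  refine ⟨t * h + ∑ k ∈ range p, z k, ?_⟩
  have hsum : (∑ k ∈ range p, (k : ℤ)) = p * h := by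
    have := Finset.sum_range_id_mul_two p
    have h2 : (∑ k ∈ range p, k) = p * h := by
      have : (∑ k ∈ range p, k) * 2 = p * h * 2 := by rw [this, hh, Nat.add_sub_cancel]; ring
      omega
    rw [← Nat.cast_sum, h2, Nat.cast_mul]
  rw [Finset.sum_congr rfl (fun k _ => hz k), sum_add_distrib, sum_add_distrib, ← Finset.sum_mul, ← Finset.sum_mul,
    hsum, ← Finset.mul_sum, Finset.sum_const, Finset.card_range, nsmul_eq_mul, mul_one]
  ring

theorem not_dvd_of_eq_one_add (hp : p.Prime) {w : ℤ} : ¬ (p : ℤ) ∣ 1 + p * w := fun h => by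
  have h1 : (p : ℤ) ∣ 1 := by
    have := h.sub (dvd_mul_right (p : ℤ) w)
    simpa using this
  exact hp.not_dvd_one (Int.natCast_dvd_natCast.mp (by simpa using h1))

theorem geom_pow (hp : p.Prime) (hp2 : p ≠ 2) {x : ℤ} (hx : (p : ℤ) ∣ x - 1) (s : ℕ) :
    ∃ w : ℤ, ¬ (p : ℤ) ∣ w ∧ ∑ k ∈ range (p ^ s), x ^ k = (p : ℤ) ^ s * w := by
  by_cases h1 : x = 1
  · exact ⟨1, fun h => hp.not_dvd_one (Int.natCast_dvd_natCast.mp (by simpa using h)), by simp [h1]⟩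
  induction s with
  | zero => exact ⟨1, fun h => hp.not_dvd_one (Int.natCast_dvd_natCast.mp (by simpa using h)), by simp⟩
  | succ s ih =>
    obtain ⟨w, hw, he⟩ := ih
    obtain ⟨t, ht⟩ := hx.trans (sub_one_dvd_pow_sub_one x (p ^ s))
    obtain ⟨w', hw'⟩ := geom_prime hp hp2 t
    refine ⟨w * (1 + p * w'), fun h => ((Nat.prime_iff_prime_int.mp hp).dvd_mul.mp h).elim hw (not_dvd_of_eq_one_add hp), ?_⟩
    have hne : x - 1 ≠ 0 := sub_ne_zero.mpr h1
    refine mul_right_cancel₀ hne ?_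
    have e1 := geom_sum_mul x (p ^ (s + 1))
    have e2 := geom_sum_mul x (p ^ s)
    have e3 := geom_sum_mul (x ^ p ^ s) p
    rw [show 1 + (p : ℤ) * t = x ^ p ^ s by linarith] at hw'
    rw [hw', ← pow_mul, ← pow_succ] at e3
    rw [he] at e2
    rw [e1, ← e3, ← e2]
    ring

/-- Lifting the exponent, as a statement about divisibility. -/
theorem dvd_pow_sub_one_iff (hp : p.Prime) (hp2 : p ≠ 2) {x u : ℤ} {d : ℕ} (hd : 1 ≤ d)
    (hx : x - 1 = (p : ℤ) ^ d * u) (hu : ¬ (p : ℤ) ∣ u) (n : ℕ) (k : ℤ) (l : ℕ) :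
    (p : ℤ) ^ (n + d) ∣ k * (x ^ l - 1) ↔ (p : ℤ) ^ n ∣ k * l := by
  rcases Nat.eq_zero_or_pos l with rfl | hl
  · simp
  obtain ⟨v, l', hl', rfl⟩ := Nat.exists_eq_pow_mul_and_not_dvd hl.ne' p hp.ne_one
  have hP := Nat.prime_iff_prime_int.mp hp
  have hpx : (p : ℤ) ∣ x - 1 := hx ▸ (dvd_pow_self _ (by omega)).mul_right u
  obtain ⟨w, hw, he⟩ := geom_pow hp hp2 hpx v
  set y := x ^ p ^ v with hy
  have hpy : (p : ℤ) ∣ y - 1 := hpx.trans (sub_one_dvd_pow_sub_one x (p ^ v))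
  set S := ∑ k ∈ range l', y ^ k with hS
  have hS' : ¬ (p : ℤ) ∣ S := by
    intro h
    have h1 : (p : ℤ) ∣ S - l' := by
      have : S - (l' : ℤ) = ∑ k ∈ range l', (y ^ k - 1) := by rw [sum_sub_distrib]; simp [hS]
      rw [this]
      exact Finset.dvd_sum fun k _ => hpy.trans (sub_one_dvd_pow_sub_one y k)
    have h2 := h.sub h1
    rw [sub_sub_cancel] at h2
    exact hl' (Int.natCast_dvd_natCast.mp h2)
  have e : x ^ (p ^ v * l') - 1 = (p : ℤ) ^ (d + v) * (u * w * S) := by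
    rw [pow_mul, ← geom_sum_mul, ← hS, ← geom_sum_mul, he, hx, pow_add]
    ring
  have hW : ¬ (p : ℤ) ∣ u * w * S := fun h =>
    (hP.dvd_mul.mp h).elim (fun h => (hP.dvd_mul.mp h).elim hu hw) hS'
  have hcop : ∀ (c : ℤ) (i : ℕ), ¬ (p : ℤ) ∣ c → IsCoprime ((p : ℤ) ^ i) c := fun c i hc =>
    ((hP.coprime_iff_not_dvd).mpr hc).pow_left
  have dmr : ∀ {a b c : ℤ}, IsCoprime a c → (a ∣ b * c ↔ a ∣ b) := fun hac =>
    ⟨fun h => hac.dvd_of_dvd_mul_right h, fun h => h.mul_right _⟩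
  rw [e, Nat.cast_mul, Nat.cast_pow, ← mul_assoc k _ (l' : ℤ),
    dmr (hcop _ n (fun h => hl' (Int.natCast_dvd_natCast.mp h))),
    show k * ((p : ℤ) ^ (d + v) * (u * w * S)) = k * (p : ℤ) ^ (d + v) * (u * w * S) by ring,
    dmr (hcop _ (n + d) hW), pow_add, pow_add,
    show k * ((p : ℤ) ^ d * (p : ℤ) ^ v) = k * (p : ℤ) ^ v * (p : ℤ) ^ d by ring,
    mul_dvd_mul_iff_right (pow_ne_zero _ (by exact_mod_cast hp.ne_zero))]

end arith

/-- Coordinates on a metacyclic `p`-group. -/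
structure Data (G : Type*) [Group G] (p : ℕ) where
  a : G
  b : G
  m : ℕ
  n : ℕ
  e : ℕ
  order_a : orderOf a = p ^ m
  normal : (Subgroup.zpowers a).Normal
  gen : ∀ g : G, ∃ i j : ℤ, g = a ^ i * b ^ j
  mem_iff : ∀ j : ℤ, b ^ j ∈ Subgroup.zpowers a ↔ (p : ℤ) ^ e ∣ j
  n_le_m : n ≤ m
  n_le_e : n ≤ e
  n_lt : n = 0 ∨ n < m
  comm : ∀ k l : ℤ, Commute (b ^ l) (a ^ k) ↔ (p : ℤ) ^ n ∣ k * l
  powsum : ∀ (j : ℤ) (s : ℕ), ∃ w : ℤ, ¬ (p : ℤ) ∣ w ∧ ∀ i : ℤ,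
    (a ^ i * b ^ j) ^ p ^ s = a ^ (i * (p : ℤ) ^ s * w) * b ^ (j * (p : ℤ) ^ s)
  card : Nat.card G = p ^ (m + e)
  card_comm : Nat.card (commutator G) = p ^ n

variable {G : Type*} [Group G] [Finite G] {p : ℕ} [hp : Fact p.Prime]

theorem exists_data (hp2 : p ≠ 2) (hG : IsPGroup p G) (hmc : Cfsg.IsMetacyclic G) :
    Nonempty (Data G p) := by
  obtain ⟨N, hN, hNc, hQc⟩ := hmc
  obtain ⟨⟨a, haN⟩, ha⟩ := IsCyclic.exists_generator (α := N)
  have hNa : N = Subgroup.zpowers a := by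
    refine le_antisymm (fun x hx => ?_) (Subgroup.zpowers_le.mpr haN)
    obtain ⟨k, hk⟩ := Subgroup.mem_zpowers_iff.mp (ha ⟨x, hx⟩)
    exact ⟨k, congrArg Subtype.val hk⟩
  obtain ⟨bq, hbq⟩ := IsCyclic.exists_generator (α := G ⧸ N)
  obtain ⟨b, rfl⟩ := QuotientGroup.mk'_surjective N bq
  obtain ⟨m, hm⟩ := IsPGroup.iff_orderOf.mp hG a
  obtain ⟨e, he⟩ := IsPGroup.iff_orderOf.mp (hG.to_quotient N) (QuotientGroup.mk' N b)
  have hmem : ∀ j : ℤ, b ^ j ∈ Subgroup.zpowers a ↔ (p : ℤ) ^ e ∣ j := fun j => by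
    rw [← hNa, ← QuotientGroup.eq_one_iff]
    show QuotientGroup.mk' N (b ^ j) = 1 ↔ _
    rw [map_zpow, ← orderOf_dvd_iff_zpow_eq_one, he, Nat.cast_pow]
  have hgen : ∀ g : G, ∃ i j : ℤ, g = a ^ i * b ^ j := by
    intro g
    obtain ⟨j, hj⟩ := Subgroup.mem_zpowers_iff.mp (hbq (QuotientGroup.mk' N g))
    have h1 : g * (b ^ j)⁻¹ ∈ N := by
      rw [← QuotientGroup.eq_one_iff]
      show QuotientGroup.mk' N (g * (b ^ j)⁻¹) = 1
      rw [map_mul, map_inv, map_zpow, hj, mul_inv_cancel]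
    rw [hNa] at h1
    obtain ⟨i, hi⟩ := Subgroup.mem_zpowers_iff.mp h1
    exact ⟨i, j, by rw [hi, inv_mul_cancel_right]⟩
  have hcard : Nat.card G = p ^ (m + e) := by
    rw [Subgroup.card_eq_card_quotient_mul_card_subgroup N, pow_add, mul_comm]
    congr 1
    · rw [hNa, Nat.card_zpowers, hm]
    · rw [← Subgroup.card_top, ← (Subgroup.eq_top_iff' _).mpr hbq, Nat.card_zpowers, he]
  obtain ⟨r, hr⟩ : ∃ r : ℕ, b * a * b⁻¹ = a ^ r := by
    have := hN.conj_mem a haN b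
    rw [hNa, ← mem_powers_iff_mem_zpowers] at this
    obtain ⟨r, hr⟩ := this
    exact ⟨r, hr.symm⟩
  have hconj : ∀ (l : ℕ) (k : ℤ), b ^ l * a ^ k * (b ^ l)⁻¹ = a ^ (k * (r : ℤ) ^ l) := by
    intro l
    induction l with
    | zero => simp
    | succ l ih =>
      intro k
      rw [pow_succ' b, show b * b ^ l * a ^ k * (b * b ^ l)⁻¹ = b * (b ^ l * a ^ k * (b ^ l)⁻¹) * b⁻¹ by group, ih,
        ← conj_zpow, hr, ← zpow_natCast, ← zpow_mul, pow_succ]
      congr 1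
      ring
  have hpr : m = 0 ∨ (p : ℤ) ∣ (r : ℤ) - 1 := by
    rcases Nat.eq_zero_or_pos m with h | h
    · exact Or.inl h
    refine Or.inr ?_
    obtain ⟨L, hL⟩ := hG b
    have h1 := hconj (p ^ L) 1
    rw [hL, one_mul, inv_one, mul_one, one_mul, zpow_one] at h1
    have h2 : ((p ^ m : ℕ) : ℤ) ∣ (r : ℤ) ^ p ^ L - 1 := by
      rw [← hm, orderOf_dvd_iff_zpow_eq_one, zpow_sub, ← h1, zpow_one, mul_inv_cancel]
    have h3 : (p : ℤ) ∣ (r : ℤ) ^ p ^ L - 1 := (Dvd.dvd.trans (by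
      push_cast; exact dvd_pow_self _ (by omega)) h2)
    rw [← ZMod.intCast_zmod_eq_zero_iff_dvd] at h3 ⊢
    push_cast at h3 ⊢
    rwa [ZMod.pow_card_pow] at h3
  have hord : ∀ z : ℤ, a ^ z = 1 ↔ (p : ℤ) ^ m ∣ z := fun z => by
    rw [← orderOf_dvd_iff_zpow_eq_one, hm, Nat.cast_pow]
  have hcommiff : ∀ (k : ℤ) (l : ℕ), Commute (b ^ l) (a ^ k) ↔ (p : ℤ) ^ m ∣ k * ((r : ℤ) ^ l - 1) := fun k l => by
    rw [← hord, mul_sub, mul_one, zpow_sub, mul_inv_eq_one, ← hconj, mul_inv_eq_iff_eq_mul]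
    rfl
  obtain ⟨n, hn1, hn2, hcomm0⟩ : ∃ n : ℕ, n ≤ m ∧ (n = 0 ∨ n < m) ∧
      ∀ (k : ℤ) (l : ℕ), Commute (b ^ l) (a ^ k) ↔ (p : ℤ) ^ n ∣ k * l := by
    by_cases hdiv : (p : ℤ) ^ m ∣ (r : ℤ) - 1
    · refine ⟨0, Nat.zero_le _, Or.inl rfl, fun k l => ?_⟩
      rw [pow_zero]
      exact iff_of_true ((hcommiff k l).mpr ((hdiv.trans (sub_one_dvd_pow_sub_one _ l)).mul_left k)) (one_dvd _)
    have hp1 : (p : ℤ) ∣ (r : ℤ) - 1 := hpr.resolve_left fun h => hdiv (by rw [h, pow_zero]; exact one_dvd _)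
    have hne : (r : ℤ) - 1 ≠ 0 := fun h => hdiv (h ▸ dvd_zero _)
    obtain ⟨d, u, hu, hdu⟩ := Nat.exists_eq_pow_mul_and_not_dvd (Int.natAbs_ne_zero.mpr hne) p hp.out.ne_one
    have hd1 : 1 ≤ d := by
      by_contra h
      obtain rfl : d = 0 := by omega
      rw [pow_zero, one_mul] at hdu
      exact hu (hdu ▸ Int.natCast_dvd.mp hp1)
    obtain ⟨u', hu', hdu'⟩ : ∃ u' : ℤ, ¬ (p : ℤ) ∣ u' ∧ (r : ℤ) - 1 = (p : ℤ) ^ d * u' := by
      rcases Int.natAbs_eq ((r : ℤ) - 1) with h | h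
      · exact ⟨u, fun h' => hu (Int.natCast_dvd_natCast.mp h'), by rw [h, hdu]; push_cast; ring⟩
      · refine ⟨-u, fun h' => hu (Int.natCast_dvd_natCast.mp (dvd_neg.mp h')), by rw [h, hdu]; push_cast; ring⟩
    have hdm : d < m := by
      by_contra h
      exact hdiv (hdu' ▸ (pow_dvd_pow _ (by omega : m ≤ d)).mul_right _)
    refine ⟨m - d, Nat.sub_le _ _, Or.inr (by omega), fun k l => ?_⟩
    rw [hcommiff, ← dvd_pow_sub_one_iff hp.out hp2 hd1 hdu' hu' (m - d) k l, Nat.sub_add_cancel hdm.le]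
  have hcomm : ∀ k l : ℤ, Commute (b ^ l) (a ^ k) ↔ (p : ℤ) ^ n ∣ k * l := by
    intro k l
    obtain ⟨q, rfl | rfl⟩ := Int.eq_nat_or_neg l
    · rw [zpow_natCast, hcomm0]
    · rw [zpow_neg, zpow_natCast, Commute.inv_left_iff, hcomm0, mul_neg, dvd_neg]
  refine ⟨⟨a, b, m, n, e, hm, hNa ▸ hN, hgen, hmem, hn1, ?_, hn2, hcomm, ?_, hcard, ?_⟩⟩
  · have h1 : Commute (b ^ ((p : ℤ) ^ e)) (a ^ (1 : ℤ)) := by
      obtain ⟨c, hc⟩ := Subgroup.mem_zpowers_iff.mp ((hmem _).mpr dvd_rfl)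
      rw [← hc]; exact (Commute.refl a).zpow_zpow c 1
    rw [hcomm, one_mul] at h1
    exact (Nat.pow_dvd_pow_iff_le_right hp.out.one_lt).mp (by exact_mod_cast h1)
  · intro j s
    obtain ⟨l, hl⟩ : ∃ l : ℕ, b ^ j = b ^ l := ⟨(j % (orderOf b : ℤ)).toNat, by
      rw [← zpow_natCast, Int.toNat_of_nonneg (Int.emod_nonneg _ (by exact_mod_cast (orderOf_pos b).ne')), zpow_mod_orderOf]⟩
    rcases Nat.eq_zero_or_pos m with h0 | h0
    · refine ⟨1, fun h => hp.out.not_dvd_one (Int.natCast_dvd_natCast.mp (by simpa using h)), fun i => ?_⟩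
      have hz : ∀ z : ℤ, a ^ z = 1 := fun z => (hord z).mpr (by rw [h0, pow_zero]; exact one_dvd _)
      rw [hz, hz, one_mul, one_mul, ← zpow_natCast, ← zpow_mul]
      push_cast
      rfl
    obtain ⟨w, hw, he'⟩ := geom_pow hp.out hp2
      ((hpr.resolve_left h0.ne').trans (sub_one_dvd_pow_sub_one (r : ℤ) l)) s
    refine ⟨w, hw, fun i => ?_⟩
    have hq : ∀ q : ℕ, (a ^ i * b ^ j) ^ q = a ^ (i * ∑ k ∈ range q, ((r : ℤ) ^ l) ^ k) * (b ^ j) ^ q := by
      intro q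
      induction q with
      | zero => simp
      | succ q ih =>
        have hc := hconj l (i * ∑ k ∈ range q, ((r : ℤ) ^ l) ^ k)
        rw [← hl] at hc
        calc (a ^ i * b ^ j) ^ (q + 1) = a ^ i * b ^ j * (a ^ (i * ∑ k ∈ range q, ((r : ℤ) ^ l) ^ k) * (b ^ j) ^ q) := by
              rw [pow_succ', ih]
          _ = a ^ i * (b ^ j * a ^ (i * ∑ k ∈ range q, ((r : ℤ) ^ l) ^ k) * (b ^ j)⁻¹) * (b ^ j) ^ (q + 1) := by
              rw [pow_succ' (b ^ j)]; group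
          _ = _ := by
              rw [hc, ← zpow_add, geom_sum_succ]
              congr 2
              ring
    rw [hq, he', ← zpow_natCast, ← zpow_mul, mul_assoc]
    push_cast
    rfl
  · set c := b * a * b⁻¹ * a⁻¹ with hc
    have hce : c = a ^ ((r : ℤ) - 1) := by rw [hc, hr, zpow_sub, zpow_one, zpow_natCast]
    have hcm : c ∈ commutator G := by
      rw [commutator_def]
      exact Subgroup.commutator_mem_commutator (Subgroup.mem_top b) (Subgroup.mem_top a)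
    have hco : orderOf c = p ^ n := by
      refine Nat.dvd_antisymm ?_ ?_
      · refine orderOf_dvd_of_pow_eq_one ?_
        rw [hce, ← zpow_natCast, ← zpow_mul, hord]
        have := (hcomm ((p : ℤ) ^ n) ((1 : ℕ) : ℤ)).mpr (by simp)
        rw [zpow_natCast, hcommiff] at this
        simpa [mul_comm] using this
      · have h1 : c ^ orderOf c = 1 := pow_orderOf_eq_one c
        rw [hce, ← zpow_natCast, ← zpow_mul, hord] at h1
        have := (hcommiff (orderOf c : ℤ) 1).mpr (by rw [pow_one, mul_comm]; rw [← hce] at h1; exact h1)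
        rw [hcomm0, Nat.cast_one, mul_one] at this
        exact_mod_cast this
    rw [← hco, ← Nat.card_zpowers]
    haveI hTn : (Subgroup.zpowers c).Normal := ⟨fun x hx g => by
      have hcA : c ∈ Subgroup.zpowers a := hce ▸ ⟨_, rfl⟩
      have hxA : x ∈ Subgroup.zpowers a := Subgroup.zpowers_le.mpr hcA hx
      haveI : (Subgroup.zpowers a).Normal := hNa ▸ hN
      obtain ⟨k, hk⟩ := Subgroup.mem_zpowers_iff.mp (this.conj_mem a (Subgroup.mem_zpowers a) g)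
      obtain ⟨z, rfl⟩ := Subgroup.mem_zpowers_iff.mp hx
      refine Subgroup.mem_zpowers_iff.mpr ⟨z * k, ?_⟩
      rw [hce, ← zpow_mul, ← zpow_mul, ← conj_zpow, ← hk, ← zpow_mul]
      congr 1
      ring⟩
    refine congrArg (fun H : Subgroup G => Nat.card H) (le_antisymm ?_ (Subgroup.zpowers_le.mpr hcm))
    rw [commutator_def, Subgroup.commutator_le]
    intro x _ y _
    rw [← QuotientGroup.eq_one_iff]
    show QuotientGroup.mk' _ ⁅x, y⁆ = 1
    rw [map_commutatorElement, commutatorElement_eq_one_iff_mul_comm]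
    set f := QuotientGroup.mk' (Subgroup.zpowers c)
    have hab : Commute (f b) (f a) := by
      have h1 : f c = 1 := (QuotientGroup.eq_one_iff _).mpr (Subgroup.mem_zpowers c)
      have h2 : f (b * a * b⁻¹ * a⁻¹) = 1 := (congrArg f hc).symm.trans h1
      rw [map_mul, map_mul, map_mul, map_inv, map_inv, mul_inv_eq_one, mul_inv_eq_iff_eq_mul] at h2
      exact h2
    obtain ⟨i, j, rfl⟩ := hgen x
    obtain ⟨i', j', rfl⟩ := hgen y
    simp only [map_mul, map_zpow]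
    exact ((((Commute.refl (f a)).zpow_zpow i i').mul_right (hab.symm.zpow_zpow i j')).mul_left
      ((hab.zpow_zpow j i').mul_right ((Commute.refl (f b)).zpow_zpow j j'))).eq

end Cfsg.Agent.Grp.Metacyclic
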