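import Cfsg.Agent.Lib.Grp.Metacyclic.Subgroups
import Cfsg.Agent.Lib.Grp.Frattini

/-!
Centre, abelian subgroups, centralizer products and class sizes in a metacyclic `p`-group.
-/

namespace Cfsg.Agent.Grp.Metacyclic

variable {G : Type*} [Group G] [Finite G] {p : ℕ} [hp : Fact p.Prime] (D : Data G p)

local notation "P" => (p : ℤ)

theorem card_center : Nat.card ↥(Subgroup.center G) = p ^ (D.m - D.n + (D.e - D.n)) := by
  obtain ⟨S⟩ := exists_shape D (Subgroup.center G)
  have h : ∀ x : ℤ, P ^ S.f ∣ x ↔ P ^ D.n ∣ x := fun x => by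
    have := mem_center D (i := x) (j := 0)
    rw [zpow_zero, mul_one, S.a_pow] at this
    simpa using this
  have hf : S.f = D.n :=
    le_antisymm (pow_dvd_iff.mp ((h _).mpr dvd_rfl)) (pow_dvd_iff.mp ((h _).mp dvd_rfl))
  have ht : S.t = D.n :=
    le_antisymm (pow_dvd_iff.mp (S.dvd 0 _ (by simpa using b_mem_center D)))
      (pow_dvd_iff.mp ((mem_center D).mp S.mem_g).2)
  rw [S.card, hf, ht]

theorem index_center : (Subgroup.center G).index = p ^ (2 * D.n) := by
  have h := (Subgroup.center G).card_mul_index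
  rw [card_center D, D.card] at h
  refine Nat.eq_of_mul_eq_mul_left (pow_pos hp.out.pos (D.m - D.n + (D.e - D.n))) (h.trans ?_)
  rw [← pow_add]
  congr 1
  have := D.n_le_m
  have := D.n_le_e
  omega

theorem index_commutator : (commutator G).index = p ^ (D.m + D.e - D.n) := by
  have h := (commutator G).card_mul_index
  rw [D.card_comm, D.card] at h
  refine Nat.eq_of_mul_eq_mul_left (pow_pos hp.out.pos D.n) (h.trans ?_)
  rw [← pow_add]
  congr 1
  have := D.n_le_m
  omega

omit [Finite G] in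
theorem isMulCommutative_sup {A B : Subgroup G} (hA : IsMulCommutative A) (hB : IsMulCommutative B)
    (h : B ≤ Subgroup.centralizer (A : Set G)) : IsMulCommutative ↥(A ⊔ B) := by
  rw [← Subgroup.le_centralizer_iff_isMulCommutative] at hA hB ⊢
  have h' : A ≤ Subgroup.centralizer (B : Set G) := Subgroup.le_centralizer_iff.mp h
  exact sup_le (Subgroup.le_centralizer_iff.mp (sup_le hA h)) (Subgroup.le_centralizer_iff.mp (sup_le h' hB))

theorem comm_iff_card (L : Subgroup G) : IsMulCommutative L ↔ Nat.card L ≤ p ^ (D.m + D.e - D.n) := by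
  obtain ⟨S⟩ := exists_shape D L
  rw [S.isMulCommutative_iff, S.card, Nat.pow_le_pow_iff_right hp.out.one_lt]
  have := S.f_le
  have := S.t_le
  have := D.n_le_m
  omega

theorem centralizer_sup_center (R : Subgroup G) :
    Subgroup.centralizer ((R ⊔ Subgroup.center G : Subgroup G) : Set G) = Subgroup.centralizer (R : Set G) := by
  refine le_antisymm (Subgroup.centralizer_le (SetLike.coe_subset_coe.mpr le_sup_left)) ?_
  rw [Subgroup.le_centralizer_iff]
  exact sup_le (Subgroup.le_centralizer_iff.mp le_rfl) (Subgroup.center_le_centralizer _)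

theorem card_mul_centralizer_of_le {L : Subgroup G} (h : Subgroup.center G ≤ L) :
    Nat.card L * Nat.card ↥(Subgroup.centralizer (L : Set G)) = p ^ (2 * (D.m + D.e - D.n)) := by
  obtain ⟨S⟩ := exists_shape D L
  exact S.card_mul_centralizer h

theorem card_mul_centralizer_lt {L : Subgroup G} (h : ¬ Subgroup.center G ≤ L) :
    Nat.card L * Nat.card ↥(Subgroup.centralizer (L : Set G)) < p ^ (2 * (D.m + D.e - D.n)) := by
  rw [← card_mul_centralizer_of_le D (L := L ⊔ Subgroup.center G) le_sup_right, centralizer_sup_center]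
  refine Nat.mul_lt_mul_of_pos_right (lt_of_not_ge fun hc => h ?_) Nat.card_pos
  rw [Subgroup.eq_of_le_of_card_ge le_sup_left hc]
  exact le_sup_right

theorem maximal_iff (L : Subgroup G) :
    Maximal (fun K : Subgroup G => IsMulCommutative ↥K) L ↔ Nat.card L = p ^ (D.m + D.e - D.n) := by
  refine ⟨fun h => ?_, fun h => ⟨(comm_iff_card D L).mpr h.le, fun K hK hLK => ?_⟩⟩
  · refine le_antisymm ((comm_iff_card D L).mp h.prop) (le_of_not_gt fun hlt => ?_)
    have hZ : Subgroup.center G ≤ L := by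
      have := h.le_of_ge (isMulCommutative_sup h.prop inferInstance (Subgroup.center_le_centralizer _))
        le_sup_left
      exact le_sup_right.trans this
    have hle : Subgroup.centralizer (L : Set G) ≤ L := fun x hx => by
      have := h.le_of_ge (isMulCommutative_sup h.prop (inferInstance : IsMulCommutative ↥(Subgroup.zpowers x))
        (Subgroup.zpowers_le.mpr hx)) le_sup_left
      exact (le_sup_right.trans this) (Subgroup.mem_zpowers x)
    have := (card_mul_centralizer_of_le D hZ).symm.le.trans (Nat.mul_le_mul_left _ (Subgroup.card_le_of_le hle))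
    rw [mul_comm 2 _, pow_mul, sq] at this
    exact absurd this (Nat.not_le.mpr (Nat.mul_self_lt_mul_self hlt))
  · exact (Subgroup.eq_of_le_of_card_ge hLK (h ▸ (comm_iff_card D K).mp hK)).ge

theorem card_mul_center (R : Subgroup G) (hR : ¬ IsMulCommutative R) :
    Nat.card R * Nat.card ↥(Subgroup.center ↥R) = p ^ (2 * (D.m + D.e - D.n)) := by
  obtain ⟨S⟩ := exists_shape D R
  rw [← card_mul_centralizer_of_le D (S.center_le_of_not_comm hR),
    ← Subgroup.card_map_of_injective R.subtype_injective]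
  congr 2
  have hle := S.centralizer_le_of_not_comm hR
  refine congrArg (fun H : Subgroup G => (H : Type _)) (le_antisymm ?_ fun x hx => ⟨⟨x, hle hx⟩, ?_, rfl⟩)
  · rintro _ ⟨⟨x, hxR⟩, hx, rfl⟩ y hy
    exact congrArg Subtype.val (Subgroup.mem_center_iff.mp hx ⟨y, hy⟩)
  · exact Subgroup.mem_center_iff.mpr fun y => Subtype.ext (hx y y.2)

/-- `powers D s` is the subgroup generated by `a ^ p ^ s` and `b ^ p ^ s`. -/
def powers (s : ℕ) : Subgroup G := Subgroup.zpowers (D.a ^ (P ^ s)) ⊔ Subgroup.zpowers (D.b ^ (P ^ s))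

theorem mem_powers {s : ℕ} {g : G} :
    g ∈ powers D s ↔ ∃ i j : ℤ, P ^ s ∣ i ∧ P ^ s ∣ j ∧ g = D.a ^ i * D.b ^ j := by
  haveI := D.normal
  haveI hn : (Subgroup.zpowers (D.a ^ (P ^ s))).Normal := ⟨fun x hx g => by
    obtain ⟨u, rfl⟩ := Subgroup.mem_zpowers_iff.mp hx
    obtain ⟨k, hk⟩ := Subgroup.mem_zpowers_iff.mp (D.normal.conj_mem _ (zpow_mem (Subgroup.mem_zpowers D.a) u) g)
    refine Subgroup.mem_zpowers_iff.mpr ⟨k, ?_⟩
    rw [← zpow_mul, ← zpow_mul, mul_comm (P ^ s), mul_comm (P ^ s), zpow_mul, hk, conj_zpow, ← zpow_mul]⟩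
  constructor
  · intro h
    obtain ⟨y, hy, z, hz, rfl⟩ := Subgroup.mem_sup_of_normal_left.mp h
    obtain ⟨u, rfl⟩ := Subgroup.mem_zpowers_iff.mp hy
    obtain ⟨v, rfl⟩ := Subgroup.mem_zpowers_iff.mp hz
    exact ⟨P ^ s * u, P ^ s * v, dvd_mul_right _ _, dvd_mul_right _ _, by rw [← zpow_mul, ← zpow_mul]⟩
  · rintro ⟨i, j, ⟨u, rfl⟩, ⟨v, rfl⟩, rfl⟩
    rw [zpow_mul, zpow_mul]
    exact mul_mem (Subgroup.mem_sup_left (zpow_mem (Subgroup.mem_zpowers _) u))
      (Subgroup.mem_sup_right (zpow_mem (Subgroup.mem_zpowers _) v))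

theorem powers_n : powers D D.n = Subgroup.center G := by
  ext g
  rw [mem_powers]
  constructor
  · rintro ⟨i, j, hi, hj, rfl⟩; exact (mem_center D).mpr ⟨hi, hj⟩
  · intro hg
    obtain ⟨i, j, rfl⟩ := D.gen g
    exact ⟨i, j, ((mem_center D).mp hg).1, ((mem_center D).mp hg).2, rfl⟩

theorem closure_powers (s : ℕ) : Subgroup.closure {x : G | ∃ y : G, y ^ p ^ s = x} = powers D s := by
  refine le_antisymm ((Subgroup.closure_le _).mpr ?_)
    (sup_le (Subgroup.zpowers_le.mpr ?_) (Subgroup.zpowers_le.mpr ?_))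
  · rintro _ ⟨y, rfl⟩
    obtain ⟨i, j, rfl⟩ := D.gen y
    obtain ⟨w, -, he⟩ := D.powsum j s
    exact (mem_powers D).mpr ⟨_, _, (dvd_mul_left _ i).mul_right w, dvd_mul_left _ j, he i⟩
  all_goals exact Subgroup.subset_closure ⟨_, by rw [← zpow_natCast]; push_cast; rfl⟩

theorem index_centralizer_le {s : ℕ} (hs : s ≤ D.n) {i j : ℤ} (hi : P ^ s ∣ i) (hj : P ^ s ∣ j) :
    (Subgroup.centralizer ({D.a ^ i * D.b ^ j} : Set G)).index ≤ p ^ (D.n - s) := by
  set g := D.a ^ i * D.b ^ j with hg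
  set C := Subgroup.centralizer ({g} : Set G)
  have hcen : g ^ p ^ (D.n - s) ∈ Subgroup.center G := by
    obtain ⟨w, -, he⟩ := D.powsum j (D.n - s)
    rw [hg, he, mem_center]
    obtain ⟨u, rfl⟩ := hi
    obtain ⟨v, rfl⟩ := hj
    have e : P ^ D.n = P ^ s * P ^ (D.n - s) := by rw [← pow_add, Nat.add_sub_cancel' hs]
    exact ⟨⟨u * w, by rw [e]; ring⟩, ⟨v, by rw [e]; ring⟩⟩
  have hsm : D.n - s ≤ D.m := (Nat.sub_le _ _).trans D.n_le_m
  have key : ∀ x : G, ∃ u : Fin (p ^ (D.n - s)),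
      x * g * x⁻¹ = D.a ^ (P ^ (D.m - (D.n - s)) * ((u : ℕ) : ℤ)) * g := by
    intro x
    obtain ⟨k, hk⟩ := Subgroup.mem_zpowers_iff.mp (commutator_mem D x g)
    have e : x * g * x⁻¹ = D.a ^ (k + i) * D.b ^ j := by
      rw [zpow_add, mul_assoc (D.a ^ k), ← hg, hk, inv_mul_cancel_right]
    obtain ⟨w, hw, he⟩ := D.powsum j (D.n - s)
    have h1 : (x * g * x⁻¹) ^ p ^ (D.n - s) = g ^ p ^ (D.n - s) := by
      rw [conj_pow, Subgroup.mem_center_iff.mp hcen x, mul_inv_cancel_right]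
    rw [e, hg, he, he, mul_left_inj, a_zpow_inj D, ← sub_mul, ← sub_mul, add_sub_cancel_right] at h1
    have h2 := (coprime_pow D.m hw).dvd_of_dvd_mul_right h1
    rw [mul_pow_dvd_iff hsm] at h2
    obtain ⟨q, hq⟩ := h2
    have hpos : (0 : ℤ) < P ^ (D.n - s) := pow_pos (by exact_mod_cast hp.out.pos) _
    refine ⟨⟨(q % P ^ (D.n - s)).toNat, ?_⟩, ?_⟩
    · have := Int.emod_lt_of_pos q hpos
      have := Int.emod_nonneg q hpos.ne'
      zify
      rw [Int.toNat_of_nonneg this]
      assumption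
    · show _ = D.a ^ (P ^ (D.m - (D.n - s)) * (((q % P ^ (D.n - s)).toNat : ℕ) : ℤ)) * g
      rw [Int.toNat_of_nonneg (Int.emod_nonneg q hpos.ne'), e, zpow_add, mul_assoc, ← hg, mul_left_inj,
        a_zpow_inj D, hq, ← mul_sub]
      have h3 : P ^ (D.n - s) ∣ q - q % P ^ (D.n - s) := Int.dvd_self_sub_emod
      obtain ⟨r, hr⟩ := h3
      exact ⟨r, by rw [hr, ← mul_assoc, ← pow_add, Nat.sub_add_cancel hsm]⟩
  choose φ hφ using key
  rw [Subgroup.index_eq_card]
  refine (Nat.card_le_card_of_injective (fun c : G ⧸ C => φ c.out) fun c c' h => ?_).trans (Nat.card_fin _).le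
  have h1 : c.out * g * c.out⁻¹ = c'.out * g * c'.out⁻¹ := by
    rw [hφ, hφ]; exact congrArg (fun u : Fin _ => D.a ^ (P ^ (D.m - (D.n - s)) * ((u : ℕ) : ℤ)) * g) h
  have hmem : c.out⁻¹ * c'.out ∈ C := by
    rw [Subgroup.mem_centralizer_singleton_iff]
    calc c.out⁻¹ * c'.out * g = c.out⁻¹ * (c'.out * g * c'.out⁻¹) * c'.out := by group
      _ = g * (c.out⁻¹ * c'.out) := by rw [← h1]; group
  rw [← QuotientGroup.out_eq' c, ← QuotientGroup.out_eq' c']
  exact QuotientGroup.eq.mpr hmem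

theorem lt_index_centralizer {s : ℕ} (hs : s ≤ D.n) {i j : ℤ} (h : ¬ (P ^ s ∣ i ∧ P ^ s ∣ j)) :
    p ^ (D.n - s) < (Subgroup.centralizer ({D.a ^ i * D.b ^ j} : Set G)).index := by
  set g := D.a ^ i * D.b ^ j with hg
  set C := Subgroup.centralizer ({g} : Set G)
  obtain ⟨z, r, hr, hz⟩ : ∃ (z : G) (r : ℤ), ¬ P ^ s ∣ r ∧ ∀ l : ℤ, z ^ l ∈ C → P ^ D.n ∣ r * l := by
    rcases not_and_or.mp h with h | h
    · exact ⟨D.b, i, h, fun l hl => (commute_b D i j l).mp (Subgroup.mem_centralizer_singleton_iff.mp hl).symm⟩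
    · exact ⟨D.a, j, h, fun l hl => (commute_a D i j l).mp (Subgroup.mem_centralizer_singleton_iff.mp hl).symm⟩
  obtain ⟨s, rfl⟩ : ∃ s', s = s' + 1 := ⟨s - 1, by
    rcases Nat.eq_zero_or_pos s with rfl | h0
    · exact absurd (by rw [pow_zero]; exact one_dvd r) hr
    · omega⟩
  have hinj : Function.Injective fun u : Fin (p ^ (D.n - s)) => ((z ^ ((u : ℕ) : ℤ) : G) : G ⧸ C) := by
    intro u u' huv
    have h1 := QuotientGroup.eq.mp huv
    rw [← zpow_neg, ← zpow_add] at h1
    have h2 := hz _ h1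
    by_contra hne
    set l : ℤ := -((u : ℕ) : ℤ) + ((u' : ℕ) : ℤ) with hl
    have hl0 : l ≠ 0 := fun h0 => hne (Fin.ext (by omega))
    have hlt : l.natAbs < p ^ (D.n - s) := by
      have := u.isLt
      have := u'.isLt
      omega
    obtain ⟨c, w, hw, hlw⟩ := Nat.exists_eq_pow_mul_and_not_dvd (Int.natAbs_ne_zero.mpr hl0) p hp.out.ne_one
    have hc : c < D.n - s := by
      by_contra hc
      have := Nat.le_of_dvd (Int.natAbs_pos.mpr hl0)
        ((pow_dvd_pow p (not_lt.mp hc)).trans (hlw ▸ dvd_mul_right _ _))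
      omega
    have h3 : P ^ D.n ∣ r * P ^ c * (w : ℤ) := by
      have : (l.natAbs : ℤ) = P ^ c * w := by rw [hlw]; push_cast; rfl
      rw [mul_assoc, ← this]
      rcases Int.natAbs_eq l with he | he
      · rwa [← he]
      · rw [show (l.natAbs : ℤ) = -l by omega, mul_neg, dvd_neg]; exact h2
    have h4 := (coprime_pow D.n (fun hd => hw (Int.natCast_dvd_natCast.mp hd))).dvd_of_dvd_mul_right h3
    rw [mul_pow_dvd_iff (by omega)] at h4
    exact hr ((pow_dvd_iff.mpr (by omega : s + 1 ≤ D.n - c)).trans h4)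
  rw [Subgroup.index_eq_card]
  refine lt_of_lt_of_le ?_ ((Nat.card_fin _).symm.le.trans (Nat.card_le_card_of_injective _ hinj))
  exact Nat.pow_lt_pow_right hp.out.one_lt (by omega)

theorem mem_powers_iff_index {s : ℕ} (hs : s ≤ D.n) (g : G) :
    g ∈ powers D s ↔ (Subgroup.centralizer ({g} : Set G)).index ≤ p ^ (D.n - s) := by
  rw [mem_powers]
  constructor
  · rintro ⟨i, j, hi, hj, rfl⟩; exact index_centralizer_le D hs hi hj
  · intro h
    obtain ⟨i, j, rfl⟩ := D.gen g
    by_contra hne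
    exact absurd h (Nat.not_le.mpr (lt_index_centralizer D hs fun hij => hne ⟨i, j, hij.1, hij.2, rfl⟩))

theorem card_powers {s : ℕ} (hs : s ≤ D.n) : Nat.card ↥(powers D s) = p ^ (D.m - s + (D.e - s)) := by
  obtain ⟨S⟩ := exists_shape D (powers D s)
  have key : ∀ i j : ℤ, D.a ^ i * D.b ^ j ∈ powers D s → P ^ s ∣ i ∧ P ^ s ∣ j := fun i j h => by
    by_contra hne
    exact absurd ((mem_powers_iff_index D hs _).mp h) (Nat.not_le.mpr (lt_index_centralizer D hs hne))
  have hf : S.f = s := le_antisymm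
    (pow_dvd_iff.mp ((S.a_pow _).mp (Subgroup.mem_sup_left (Subgroup.mem_zpowers _))))
    (pow_dvd_iff.mp (key _ 0 (by rw [zpow_zero, mul_one]; exact S.a_gen_mem)).1)
  have ht : S.t = s := le_antisymm
    (pow_dvd_iff.mp (S.dvd 0 _ (by rw [zpow_zero, one_mul]; exact Subgroup.mem_sup_right (Subgroup.mem_zpowers _))))
    (pow_dvd_iff.mp (key _ _ S.mem_g).2)
  rw [S.card, hf, ht]

theorem frattini_eq (hn : 1 ≤ D.n) : frattini G = powers D 1 := by
  have hG : IsPGroup p G := IsPGroup.of_card D.card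
  refine le_antisymm (fun g hg => ?_) ?_
  · have hnc : ∀ y : G, Subgroup.zpowers y ⊔ frattini G ≠ ⊤ := by
      intro y h
      haveI : IsCyclic G := isCyclic_iff_exists_zpowers_eq_top.mpr ⟨y, frattini_nongenerating h⟩
      obtain ⟨S⟩ := exists_shape D (⊤ : Subgroup G)
      have := S.isMulCommutative_iff.mp inferInstance
      have h1 := S.f_le
      have h2 : S.f = 0 := by
        have := (S.a_pow 1).mp (Subgroup.mem_top _)
        rw [← pow_zero P, pow_dvd_iff] at this
        omega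
      have h3 : S.t = 0 := by
        have := S.dvd 0 1 (Subgroup.mem_top _)
        rw [← pow_zero P, pow_dvd_iff] at this
        omega
      omega
    have htop : ∀ K : Subgroup G, D.a ∈ K → D.b ∈ K → K = ⊤ := fun K ha hb => by
      refine (Subgroup.eq_top_iff' K).mpr fun x => ?_
      obtain ⟨i, j, rfl⟩ := D.gen x
      exact mul_mem (zpow_mem ha i) (zpow_mem hb j)
    have hroot : ∀ (K : Subgroup G) (x : G) (k : ℤ), ¬ P ∣ k → x ^ k ∈ K → x ∈ K := by
      intro K x k hk hx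
      obtain ⟨c, hc⟩ := IsPGroup.iff_orderOf.mp hG x
      obtain ⟨k', hk'⟩ := exists_inv c hk
      have h1 : x ^ (k * k' - 1) = 1 :=
        orderOf_dvd_iff_zpow_eq_one.mp (by rw [hc, Nat.cast_pow]; exact hk')
      rw [zpow_sub, zpow_one, mul_inv_eq_one, zpow_mul] at h1
      rw [← h1]
      exact zpow_mem hx k'
    obtain ⟨i, j, rfl⟩ := D.gen g
    refine (mem_powers D).mpr ⟨i, j, ?_, ?_, rfl⟩ <;> rw [pow_one] <;> by_contra hd
    · set K := Subgroup.zpowers D.b ⊔ frattini G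
      have hb : D.b ∈ K := Subgroup.mem_sup_left (Subgroup.mem_zpowers _)
      exact hnc D.b (htop K (hroot K _ i hd ((Subgroup.mul_mem_cancel_right K (zpow_mem hb j)).mp
        (Subgroup.mem_sup_right hg))) hb)
    · set K := Subgroup.zpowers D.a ⊔ frattini G
      have ha : D.a ∈ K := Subgroup.mem_sup_left (Subgroup.mem_zpowers _)
      exact hnc D.a (htop K ha (hroot K _ j hd ((Subgroup.mul_mem_cancel_left K (zpow_mem ha i)).mp
        (Subgroup.mem_sup_right hg))))
  · rw [← closure_powers D 1, Subgroup.closure_le]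
    rintro _ ⟨y, rfl⟩
    rw [pow_one]
    exact Cfsg.Agent.Grp.pGroup_pow_mem_frattini hG y

end Cfsg.Agent.Grp.Metacyclic
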