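import Cfsg.Agent.Lib.Grp.Metacyclic.Basic

/-!
Subgroups of a metacyclic `p`-group in coordinates: every subgroup is generated by some
`a ^ p ^ f` and some `a ^ i * b ^ p ^ t`.
-/

namespace Cfsg.Agent.Grp.Metacyclic

variable {G : Type*} [Group G] [Finite G] {p : ℕ} [hp : Fact p.Prime] (D : Data G p)

local notation "P" => (p : ℤ)

theorem pne : (p : ℤ) ≠ 0 := Int.natCast_ne_zero.mpr hp.out.ne_zero

theorem pow_dvd_iff {i j : ℕ} : P ^ i ∣ P ^ j ↔ i ≤ j := by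
  rw [← Nat.cast_pow, ← Nat.cast_pow, Int.natCast_dvd_natCast, Nat.pow_dvd_pow_iff_le_right hp.out.one_lt]

theorem mul_pow_dvd_iff {i j : ℕ} {x : ℤ} (h : j ≤ i) : P ^ i ∣ x * P ^ j ↔ P ^ (i - j) ∣ x := by
  conv_lhs => rw [← Nat.sub_add_cancel h, pow_add]
  exact mul_dvd_mul_iff_right (pow_ne_zero _ pne)

theorem coprime_pow {w : ℤ} (i : ℕ) (hw : ¬ P ∣ w) : IsCoprime (P ^ i) w :=
  ((Nat.prime_iff_prime_int.mp hp.out).coprime_iff_not_dvd.mpr hw).pow_left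

theorem exists_inv (i : ℕ) {w : ℤ} (hw : ¬ P ∣ w) : ∃ w' : ℤ, P ^ i ∣ w * w' - 1 := by
  obtain ⟨u, v, huv⟩ := coprime_pow i hw
  exact ⟨v, -u, by linear_combination huv⟩

theorem a_zpow_eq_one {z : ℤ} : D.a ^ z = 1 ↔ P ^ D.m ∣ z := by
  rw [← orderOf_dvd_iff_zpow_eq_one, D.order_a, Nat.cast_pow]

theorem a_zpow_inj {x y : ℤ} : D.a ^ x = D.a ^ y ↔ P ^ D.m ∣ x - y := by
  rw [← a_zpow_eq_one D, zpow_sub, mul_inv_eq_one]

theorem a_mem (i : ℤ) : D.a ^ i ∈ Subgroup.zpowers D.a := zpow_mem (Subgroup.mem_zpowers _) i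

theorem mk_eq (i j : ℤ) [(Subgroup.zpowers D.a).Normal] :
    QuotientGroup.mk' (Subgroup.zpowers D.a) (D.a ^ i * D.b ^ j) =
      QuotientGroup.mk' (Subgroup.zpowers D.a) D.b ^ j := by
  rw [map_mul, map_zpow, map_zpow, show QuotientGroup.mk' (Subgroup.zpowers D.a) D.a = 1 from
    (QuotientGroup.eq_one_iff _).mpr (Subgroup.mem_zpowers _), one_zpow, one_mul]

theorem commute_a (i j k : ℤ) : Commute (D.a ^ i * D.b ^ j) (D.a ^ k) ↔ P ^ D.n ∣ j * k := by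
  rw [mul_comm j k, ← D.comm k j]
  refine ⟨fun h => ?_, fun h => ((Commute.refl D.a).zpow_zpow i k).mul_left h⟩
  have := ((Commute.refl D.a).zpow_zpow i k).inv_left.mul_left h
  rwa [inv_mul_cancel_left] at this

theorem commute_b (i j l : ℤ) : Commute (D.a ^ i * D.b ^ j) (D.b ^ l) ↔ P ^ D.n ∣ i * l := by
  rw [← D.comm i l]
  refine ⟨fun h => ?_, fun h => h.symm.mul_left ((Commute.refl D.b).zpow_zpow j l)⟩
  have := h.mul_left ((Commute.refl D.b).zpow_zpow j l).inv_left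
  rw [mul_inv_cancel_right] at this
  exact this.symm

theorem mem_center {i j : ℤ} :
    D.a ^ i * D.b ^ j ∈ Subgroup.center G ↔ P ^ D.n ∣ i ∧ P ^ D.n ∣ j := by
  rw [Subgroup.mem_center_iff]
  refine ⟨fun h => ⟨?_, ?_⟩, fun ⟨hi, hj⟩ g => ?_⟩
  · simpa using (commute_b D i j 1).mp (h (D.b ^ (1 : ℤ))).symm
  · simpa using (commute_a D i j 1).mp (h (D.a ^ (1 : ℤ))).symm
  · obtain ⟨k, l, rfl⟩ := D.gen g
    exact (((commute_a D i j k).mpr (hj.mul_right k)).mul_right ((commute_b D i j l).mpr (hi.mul_right l))).symm.eq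

theorem a_mem_center : D.a ^ (P ^ D.n) ∈ Subgroup.center G := by
  have := (mem_center D (i := P ^ D.n) (j := 0)).mpr ⟨dvd_rfl, dvd_zero _⟩
  simpa using this

theorem b_mem_center : D.b ^ (P ^ D.n) ∈ Subgroup.center G := by
  have := (mem_center D (i := 0) (j := P ^ D.n)).mpr ⟨dvd_zero _, dvd_rfl⟩
  simpa using this

theorem commutator_mem : ∀ x y : G, x * y * x⁻¹ * y⁻¹ ∈ Subgroup.zpowers D.a := by
  intro x y
  haveI := D.normal
  rw [← QuotientGroup.eq_one_iff]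
  show QuotientGroup.mk' _ (x * y * x⁻¹ * y⁻¹) = 1
  obtain ⟨i, j, rfl⟩ := D.gen x
  obtain ⟨i', j', rfl⟩ := D.gen y
  rw [map_mul, map_mul, map_mul, map_inv, map_inv, mk_eq, mk_eq]
  group

/-- A subgroup in coordinates. -/
structure Shape (L : Subgroup G) where
  f : ℕ
  t : ℕ
  i : ℤ
  f_le : f ≤ D.m
  t_le : t ≤ D.e
  a_pow : ∀ x : ℤ, D.a ^ x ∈ L ↔ P ^ f ∣ x
  mem_g : D.a ^ i * D.b ^ (P ^ t) ∈ L
  dvd : ∀ x y : ℤ, D.a ^ x * D.b ^ y ∈ L → P ^ t ∣ y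
  decomp : ∀ x ∈ L, ∃ u q : ℤ, x = D.a ^ (u * P ^ f) * (D.a ^ i * D.b ^ (P ^ t)) ^ q
  card : Nat.card L = p ^ (D.m - f + (D.e - t))

theorem exists_shape (L : Subgroup G) : Nonempty (Shape D L) := by
  classical
  haveI := D.normal
  set A := Subgroup.zpowers D.a with hA
  have hG : IsPGroup p G := IsPGroup.of_card D.card
  obtain ⟨c, hc⟩ := IsPGroup.iff_card.mp (hG.to_subgroup (L ⊓ A))
  have hcm : c ≤ D.m := by
    have h := Subgroup.card_le_of_le (inf_le_right : L ⊓ A ≤ A)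
    rw [hc, hA, Nat.card_zpowers, D.order_a] at h
    exact (Nat.pow_le_pow_iff_right hp.out.one_lt).mp h
  have hiff : ∀ x : ℤ, D.a ^ x ∈ L ↔ P ^ (D.m - c) ∣ x := by
    have hfwd : ∀ y ∈ L ⊓ A, y ^ p ^ c = 1 := fun y hy => by
      have := pow_card_eq_one' (G := ↥(L ⊓ A)) (x := ⟨y, hy⟩)
      rw [hc] at this
      exact congrArg Subtype.val this
    have hfwd' : ∀ x : ℤ, D.a ^ x ∈ L → P ^ (D.m - c) ∣ x := by
      intro x hx
      have h1 := hfwd _ ⟨hx, a_mem D x⟩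
      rw [← zpow_natCast, ← zpow_mul, a_zpow_eq_one D, Nat.cast_pow, mul_pow_dvd_iff hcm] at h1
      exact h1
    have heq : L ⊓ A = Subgroup.zpowers (D.a ^ (p ^ (D.m - c))) := by
      refine Subgroup.eq_of_le_of_card_ge (fun y hy => ?_) ?_
      · obtain ⟨k, rfl⟩ := Subgroup.mem_zpowers_iff.mp hy.2
        obtain ⟨q, hq⟩ := hfwd' k hy.1
        refine Subgroup.mem_zpowers_iff.mpr ⟨q, ?_⟩
        rw [hq, zpow_mul, ← zpow_natCast, Nat.cast_pow]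
      · rw [hc, Nat.card_zpowers, orderOf_pow_of_dvd (pow_ne_zero _ hp.out.ne_zero)
          (by rw [D.order_a]; exact pow_dvd_pow p (Nat.sub_le _ _)), D.order_a,
          Nat.pow_div (Nat.sub_le _ _) hp.out.pos, Nat.sub_sub_self hcm]
    intro x
    refine ⟨hfwd' x, fun ⟨q, hq⟩ => ?_⟩
    have h : D.a ^ x ∈ Subgroup.zpowers (D.a ^ (p ^ (D.m - c))) := Subgroup.mem_zpowers_iff.mpr ⟨q, by
      rw [hq, zpow_mul, ← zpow_natCast, Nat.cast_pow]⟩
    rw [← heq] at h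
    exact h.1
  have hex : ∃ t, ∃ i : ℤ, D.a ^ i * D.b ^ (P ^ t) ∈ L := by
    obtain ⟨k, hk⟩ := Subgroup.mem_zpowers_iff.mp ((D.mem_iff _).mpr (dvd_refl (P ^ D.e)))
    exact ⟨D.e, -k, by rw [← hk, ← zpow_add, neg_add_cancel, zpow_zero]; exact one_mem L⟩
  have htle : Nat.find hex ≤ D.e := Nat.find_le (by
    obtain ⟨k, hk⟩ := Subgroup.mem_zpowers_iff.mp ((D.mem_iff _).mpr (dvd_refl (P ^ D.e)))
    exact ⟨-k, by rw [← hk, ← zpow_add, neg_add_cancel, zpow_zero]; exact one_mem L⟩)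
  set t := Nat.find hex with ht
  obtain ⟨i, hi⟩ := Nat.find_spec hex
  have hdvd : ∀ x y : ℤ, D.a ^ x * D.b ^ y ∈ L → P ^ t ∣ y := by
    intro x y hxy
    obtain ⟨k, hk1, hk2⟩ : ∃ k : ℕ, k ≤ t ∧ ∃ u v : ℤ, (P ^ t).gcd y = p ^ k ∧ u * P ^ t + v * y = ((p ^ k : ℕ) : ℤ) := by
      obtain ⟨k, hk, he⟩ := (Nat.dvd_prime_pow hp.out).mp
        (show (P ^ t).gcd y ∣ p ^ t by
          have := Int.gcd_dvd_natAbs_left (P ^ t) y
          rwa [Int.natAbs_pow, Int.natAbs_natCast] at this)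
      refine ⟨k, hk, Int.gcdA (P ^ t) y, Int.gcdB (P ^ t) y, he, ?_⟩
      rw [← he, Int.gcd_eq_gcd_ab]
      ring
    obtain ⟨u, v, hgcd, huv⟩ := hk2
    have h : ∃ i' : ℤ, D.a ^ i' * D.b ^ (P ^ k) ∈ L := by
      have hm := mul_mem (zpow_mem hi u) (zpow_mem hxy v)
      set z := (D.a ^ i * D.b ^ (P ^ t)) ^ u * (D.a ^ x * D.b ^ y) ^ v
      obtain ⟨i', hi'⟩ := Subgroup.mem_zpowers_iff.mp (show z * (D.b ^ (P ^ k))⁻¹ ∈ A by
        rw [← QuotientGroup.eq_one_iff]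
        show QuotientGroup.mk' A (z * (D.b ^ (P ^ k))⁻¹) = 1
        rw [map_mul, map_mul, map_zpow, map_zpow, mk_eq, mk_eq, map_inv, map_zpow, ← zpow_mul, ← zpow_mul, ← zpow_add,
          mul_inv_eq_one]
        congr 1
        rw [← Nat.cast_pow p k, ← huv]
        ring)
      exact ⟨i', by rw [hi', inv_mul_cancel_right]; exact hm⟩
    have hkt : k = t := le_antisymm hk1 (Nat.find_le h)
    have h2 := Int.gcd_dvd_right (P ^ t) y
    rw [hgcd, hkt, Nat.cast_pow] at h2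
    exact h2
  have hdec : ∀ x ∈ L, ∃ u q : ℤ, x = D.a ^ (u * P ^ (D.m - c)) * (D.a ^ i * D.b ^ (P ^ t)) ^ q := by
    intro x hx
    obtain ⟨x1, y1, rfl⟩ := D.gen x
    obtain ⟨q, hq⟩ := hdvd x1 y1 hx
    set g := D.a ^ i * D.b ^ (P ^ t)
    have hmem : (D.a ^ x1 * D.b ^ y1) * (g ^ q)⁻¹ ∈ A := by
      rw [← QuotientGroup.eq_one_iff]
      show QuotientGroup.mk' A _ = 1
      rw [map_mul, map_inv, map_zpow, mk_eq, mk_eq, ← zpow_mul, hq, mul_inv_cancel]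
    obtain ⟨k, hk⟩ := Subgroup.mem_zpowers_iff.mp hmem
    obtain ⟨u, hu⟩ := (hiff k).mp (hk ▸ mul_mem hx (inv_mem (zpow_mem hi q)))
    exact ⟨u, q, by rw [mul_comm u, ← hu, hk, inv_mul_cancel_right]⟩
  refine ⟨⟨D.m - c, t, i, Nat.sub_le _ _, htle, hiff, hi, hdvd, hdec, ?_⟩⟩
  set f := (QuotientGroup.mk' A).domRestrict L with hf
  have h1 : Nat.card f.range = p ^ (D.e - t) := by
    have hrange : f.range = Subgroup.zpowers (QuotientGroup.mk' A D.b ^ (p ^ t)) := by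
      refine le_antisymm ?_ (Subgroup.zpowers_le.mpr ⟨⟨_, hi⟩, ?_⟩)
      · rintro _ ⟨⟨x, hx⟩, rfl⟩
        obtain ⟨x1, y1, rfl⟩ := D.gen x
        obtain ⟨q, hq⟩ := hdvd x1 y1 hx
        refine Subgroup.mem_zpowers_iff.mpr ⟨q, ?_⟩
        show _ = QuotientGroup.mk' A (D.a ^ x1 * D.b ^ y1)
        rw [mk_eq, hq, zpow_mul, ← zpow_natCast, Nat.cast_pow]
      · show QuotientGroup.mk' A (D.a ^ i * D.b ^ (P ^ t)) = _
        rw [mk_eq, ← zpow_natCast, Nat.cast_pow]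
    have hord : orderOf (QuotientGroup.mk' A D.b) = p ^ D.e := by
      have key : ∀ j : ℤ, QuotientGroup.mk' A D.b ^ j = 1 ↔ P ^ D.e ∣ j := fun j => by
        rw [← map_zpow]
        exact (QuotientGroup.eq_one_iff _).trans (D.mem_iff j)
      refine Nat.dvd_antisymm (Int.natCast_dvd_natCast.mp ?_) (Int.natCast_dvd_natCast.mp ?_)
      · rw [orderOf_dvd_iff_zpow_eq_one, key, Nat.cast_pow]
      · rw [Nat.cast_pow, ← key, zpow_natCast, pow_orderOf_eq_one]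
    rw [hrange, Nat.card_zpowers, orderOf_pow_of_dvd (pow_ne_zero _ hp.out.ne_zero) (hord ▸ pow_dvd_pow p htle), hord,
      Nat.pow_div htle hp.out.pos]
  have h2 : Nat.card f.ker = p ^ c := by
    rw [← hc, hf, MonoidHom.ker_domRestrict, QuotientGroup.ker_mk', ← Subgroup.card_map_of_injective L.subtype_injective,
      Subgroup.subgroupOf_map_subtype, inf_comm]
  rw [← Subgroup.card_mul_index f.ker, h2, Subgroup.index_ker, h1, ← pow_add, Nat.sub_sub_self hcm]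

variable {D} {L : Subgroup G} (S : Shape D L)
include S

theorem Shape.a_gen_mem : D.a ^ (P ^ S.f) ∈ L := (S.a_pow _).mpr dvd_rfl

theorem Shape.isMulCommutative_iff : IsMulCommutative L ↔ D.n ≤ S.f + S.t := by
  refine ⟨fun h => ?_, fun h => ?_⟩
  · have hc : Commute (D.a ^ S.i * D.b ^ (P ^ S.t)) (D.a ^ (P ^ S.f)) :=
      congrArg Subtype.val (mul_comm' (⟨_, S.mem_g⟩ : L) ⟨_, S.a_gen_mem⟩)
    rw [commute_a, ← pow_add, pow_dvd_iff] at hc
    omega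
  · refine ⟨⟨fun ⟨x, hx⟩ ⟨y, hy⟩ => Subtype.ext ?_⟩⟩
    obtain ⟨u, q, rfl⟩ := S.decomp x hx
    obtain ⟨u', q', rfl⟩ := S.decomp y hy
    have hag : ∀ v : ℤ, Commute (D.a ^ (v * P ^ S.f)) (D.a ^ S.i * D.b ^ (P ^ S.t)) := fun v =>
      ((commute_a D _ _ _).mpr (by
        rw [show P ^ S.t * (v * P ^ S.f) = v * P ^ (S.t + S.f) by rw [pow_add]; ring]
        exact (pow_dvd_iff.mpr (by omega)).mul_left v)).symm
    exact ((((Commute.refl D.a).zpow_zpow _ _).mul_right ((hag u).zpow_right q')).mul_left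
      (((hag u').symm.zpow_left q).mul_right ((Commute.refl _).zpow_zpow q q'))).eq

theorem Shape.center_le_iff : Subgroup.center G ≤ L ↔
    D.a ^ (P ^ D.n) ∈ L ∧ D.b ^ (P ^ D.n) ∈ L := by
  refine ⟨fun h => ⟨h (a_mem_center D), h (b_mem_center D)⟩, fun ⟨ha, hb⟩ z hz => ?_⟩
  obtain ⟨i, j, rfl⟩ := D.gen z
  obtain ⟨⟨u, hu⟩, ⟨v, hv⟩⟩ := (mem_center D).mp hz
  rw [hu, hv, zpow_mul, zpow_mul]
  exact mul_mem (zpow_mem ha u) (zpow_mem hb v)

/-- For a subgroup containing the centre: exponents are at most `n`, and a divisibility. -/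
theorem Shape.of_center_le (h : Subgroup.center G ≤ L) :
    S.f ≤ D.n ∧ S.t ≤ D.n ∧ P ^ (S.f + S.t - D.n) ∣ S.i := by
  obtain ⟨ha, hb⟩ := S.center_le_iff.mp h
  have hf : S.f ≤ D.n := pow_dvd_iff.mp ((S.a_pow _).mp ha)
  have ht : S.t ≤ D.n := pow_dvd_iff.mp (S.dvd 0 _ (by simpa using hb))
  refine ⟨hf, ht, ?_⟩
  obtain ⟨w, hw, he⟩ := D.powsum (P ^ S.t) (D.n - S.t)
  have h1 := L.pow_mem S.mem_g (p ^ (D.n - S.t))
  rw [he, ← pow_add, Nat.add_sub_cancel' ht] at h1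
  have h2 := (S.a_pow _).mp ((Subgroup.mul_mem_cancel_right L hb).mp h1)
  have h3 : P ^ S.f ∣ S.i * P ^ (D.n - S.t) := (coprime_pow S.f hw).dvd_of_dvd_mul_right h2
  rcases Nat.le_total S.f (D.n - S.t) with h4 | h4
  · rw [show S.f + S.t - D.n = 0 by omega, pow_zero]; exact one_dvd _
  · rw [mul_pow_dvd_iff h4] at h3
    rwa [show S.f + S.t - D.n = S.f - (D.n - S.t) by omega]

theorem Shape.center_le_of_not_comm (h : ¬ IsMulCommutative L) : Subgroup.center G ≤ L := by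
  rw [S.isMulCommutative_iff] at h
  refine S.center_le_iff.mpr ⟨(S.a_pow _).mpr (pow_dvd_iff.mpr (by omega)), ?_⟩
  obtain ⟨w, hw, he⟩ := D.powsum (P ^ S.t) (D.n - S.t)
  have h1 := L.pow_mem S.mem_g (p ^ (D.n - S.t))
  rw [he, ← pow_add, Nat.add_sub_cancel' (by omega : S.t ≤ D.n)] at h1
  exact (Subgroup.mul_mem_cancel_left L ((S.a_pow _).mpr
    (((pow_dvd_iff.mpr (by omega : S.f ≤ D.n - S.t)).mul_left S.i).mul_right w))).mp h1

theorem Shape.mem_centralizer {x : G} : x ∈ Subgroup.centralizer (L : Set G) ↔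
    Commute x (D.a ^ (P ^ S.f)) ∧ Commute x (D.a ^ S.i * D.b ^ (P ^ S.t)) := by
  rw [Subgroup.mem_centralizer_iff]
  refine ⟨fun h => ⟨(h _ S.a_gen_mem).symm, (h _ S.mem_g).symm⟩, fun ⟨h1, h2⟩ y hy => ?_⟩
  obtain ⟨u, q, rfl⟩ := S.decomp y hy
  rw [mul_comm u, zpow_mul]
  exact ((h1.zpow_right u).mul_right (h2.zpow_right q)).symm.eq

theorem Shape.card_centralizer (h : Subgroup.center G ≤ L) :
    Nat.card ↥(Subgroup.centralizer (L : Set G)) = p ^ (D.m - (D.n - S.t) + (D.e - (D.n - S.f))) := by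
  obtain ⟨hf, ht, hi⟩ := S.of_center_le h
  obtain ⟨T⟩ := exists_shape D (Subgroup.centralizer (L : Set G))
  have hiff : ∀ x : ℤ, D.a ^ x ∈ Subgroup.centralizer (L : Set G) ↔ P ^ (D.n - S.t) ∣ x := by
    intro x
    rw [S.mem_centralizer, ← mul_pow_dvd_iff ht, mul_comm x, ← commute_a D S.i]
    exact ⟨fun h => h.2.symm, fun h => ⟨(Commute.refl D.a).zpow_zpow _ _, h.symm⟩⟩
  have hTf : T.f = D.n - S.t := by
    have hle : D.n - S.t ≤ D.m := (Nat.sub_le _ _).trans D.n_le_m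
    exact le_antisymm (pow_dvd_iff.mp ((T.a_pow _).mp ((hiff _).mpr dvd_rfl))) (pow_dvd_iff.mp ((hiff _).mp T.a_gen_mem))
  set g := D.a ^ S.i * D.b ^ (P ^ S.t) with hg
  set q := p ^ (D.n - S.t) with hq
  set β := D.b ^ (P ^ (D.n - S.f)) with hβ
  haveI := D.normal
  have hβa : Commute β (D.a ^ (P ^ S.f)) := (D.comm _ _).mpr (by
    rw [← pow_add, pow_dvd_iff]; omega)
  have hβi : Commute β ((D.a ^ S.i) ^ q) := by
    rw [hβ, ← zpow_natCast, ← zpow_mul, D.comm, Nat.cast_pow, mul_assoc, ← pow_add]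
    obtain ⟨u, hu⟩ := hi
    rw [hu, show P ^ (S.f + S.t - D.n) * u * P ^ (D.n - S.t + (D.n - S.f)) =
      u * P ^ (S.f + S.t - D.n + (D.n - S.t + (D.n - S.f))) by rw [pow_add]; ring]
    exact (pow_dvd_iff.mpr (by omega)).mul_left u
  obtain ⟨k, hk⟩ : ∃ k : ℤ, D.a ^ k = g * β * g⁻¹ * β⁻¹ := Subgroup.mem_zpowers_iff.mp (commutator_mem D g β)
  have hkq : (D.a ^ k) ^ q = 1 := by
    have e1 : g * β * g⁻¹ * β⁻¹ = D.a ^ S.i * (β * (D.a ^ S.i)⁻¹ * β⁻¹) := by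
      rw [hg, hβ, show D.a ^ S.i * D.b ^ (P ^ S.t) * D.b ^ (P ^ (D.n - S.f)) =
        D.a ^ S.i * D.b ^ (P ^ (D.n - S.f)) * D.b ^ (P ^ S.t) by
          rw [mul_assoc, ((Commute.refl D.b).zpow_zpow _ _).eq, ← mul_assoc]]
      group
    have hc : Commute (D.a ^ S.i) (β * (D.a ^ S.i)⁻¹ * β⁻¹) := by
      obtain ⟨v, hv⟩ := Subgroup.mem_zpowers_iff.mp (D.normal.conj_mem _ (inv_mem (a_mem D S.i)) β)
      rw [← hv]; exact (Commute.refl D.a).zpow_zpow _ _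
    rw [hk, e1, hc.mul_pow, conj_pow, inv_pow, (hβi.inv_right).eq, mul_inv_cancel_right, mul_inv_cancel]
  obtain ⟨x, hx⟩ : ∃ x : ℤ, g * D.a ^ x * g⁻¹ * (D.a ^ x)⁻¹ = (D.a ^ k)⁻¹ := by
    let ψ : Subgroup.zpowers D.a →* G := MonoidHom.mk' (fun y => g * (y : G) * g⁻¹ * (y : G)⁻¹) (fun y z => by
      obtain ⟨v, hv⟩ := Subgroup.mem_zpowers_iff.mp (commutator_mem D g z)
      obtain ⟨w, hw⟩ := Subgroup.mem_zpowers_iff.mp y.2
      have hc : (g * (z : G) * g⁻¹ * (z : G)⁻¹) * (y : G)⁻¹ = (y : G)⁻¹ * (g * (z : G) * g⁻¹ * (z : G)⁻¹) := by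
        rw [← hv, ← hw]
        exact ((Commute.refl D.a).zpow_zpow v w).inv_right.eq
      rw [Subgroup.coe_mul]
      calc g * ((y : G) * z) * g⁻¹ * ((y : G) * z)⁻¹ = g * y * g⁻¹ * ((g * z * g⁻¹ * (z : G)⁻¹) * (y : G)⁻¹) := by group
        _ = g * y * g⁻¹ * ((y : G)⁻¹ * (g * z * g⁻¹ * (z : G)⁻¹)) := by rw [hc]
        _ = _ := by group)
    have hker : ∀ x : ℤ, ψ ⟨D.a ^ x, a_mem D x⟩ = 1 ↔ P ^ (D.n - S.t) ∣ x := fun x => by
      show g * D.a ^ x * g⁻¹ * (D.a ^ x)⁻¹ = 1 ↔ _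
      rw [mul_inv_eq_one, mul_inv_eq_iff_eq_mul, ← mul_pow_dvd_iff ht, mul_comm x, ← commute_a D S.i]
      rfl
    have hkc : Nat.card ψ.ker = p ^ (D.m - (D.n - S.t)) := by
      have hle : D.n - S.t ≤ D.m := (Nat.sub_le _ _).trans D.n_le_m
      have e : ψ.ker.map (Subgroup.zpowers D.a).subtype = Subgroup.zpowers (D.a ^ (p ^ (D.n - S.t))) := by
        ext y
        constructor
        · rintro ⟨⟨z, hz⟩, hzk, rfl⟩
          obtain ⟨v, rfl⟩ := Subgroup.mem_zpowers_iff.mp hz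
          obtain ⟨u, hu⟩ := (hker v).mp hzk
          exact Subgroup.mem_zpowers_iff.mpr ⟨u, by
            show _ = D.a ^ v
            rw [hu, zpow_mul, ← zpow_natCast, Nat.cast_pow]⟩
        · intro hy
          obtain ⟨u, rfl⟩ := Subgroup.mem_zpowers_iff.mp hy
          refine ⟨⟨D.a ^ (((p ^ (D.n - S.t) : ℕ) : ℤ) * u), a_mem D _⟩, (hker _).mpr ⟨u, by rw [Nat.cast_pow]⟩, ?_⟩
          show D.a ^ (((p ^ (D.n - S.t) : ℕ) : ℤ) * u) = _
          rw [zpow_mul, zpow_natCast]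
      rw [← Subgroup.card_map_of_injective (Subgroup.zpowers D.a).subtype_injective, e, Nat.card_zpowers,
        orderOf_pow_of_dvd (pow_ne_zero _ hp.out.ne_zero) (by rw [D.order_a]; exact pow_dvd_pow p hle), D.order_a,
        Nat.pow_div hle hp.out.pos]
    have hrc : Nat.card ψ.range = q := by
      have h1 := Subgroup.card_mul_index ψ.ker
      rw [Subgroup.index_ker, hkc, Nat.card_zpowers, D.order_a] at h1
      refine Nat.eq_of_mul_eq_mul_left (pow_pos hp.out.pos (D.m - (D.n - S.t))) (h1.trans ?_)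
      rw [hq, ← pow_add]
      congr 1
      have := D.n_le_m
      omega
    have hra : ψ.range ≤ Subgroup.zpowers D.a := by rintro _ ⟨y, rfl⟩; exact commutator_mem D g y
    have hdiv : ∀ v : ℤ, (D.a ^ v) ^ q = 1 → P ^ (D.m - (D.n - S.t)) ∣ v := fun v hv => by
      rw [← zpow_natCast, ← zpow_mul, a_zpow_eq_one D, Nat.cast_pow,
        mul_pow_dvd_iff ((Nat.sub_le _ _).trans D.n_le_m)] at hv
      exact hv
    have hr : ψ.range = Subgroup.zpowers (D.a ^ (p ^ (D.m - (D.n - S.t)))) := by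
      refine Subgroup.eq_of_le_of_card_ge (fun y hy => ?_) ?_
      · obtain ⟨v, rfl⟩ := Subgroup.mem_zpowers_iff.mp (hra hy)
        have h1 := pow_card_eq_one' (G := ψ.range) (x := ⟨D.a ^ v, hy⟩)
        rw [hrc] at h1
        obtain ⟨u, hu⟩ := hdiv v (congrArg Subtype.val h1)
        exact Subgroup.mem_zpowers_iff.mpr ⟨u, by rw [hu, zpow_mul, ← zpow_natCast, Nat.cast_pow]⟩
      · rw [hrc, Nat.card_zpowers, orderOf_pow_of_dvd (pow_ne_zero _ hp.out.ne_zero)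
          (by rw [D.order_a]; exact pow_dvd_pow p (Nat.sub_le _ _)), D.order_a, Nat.pow_div (Nat.sub_le _ _) hp.out.pos,
          Nat.sub_sub_self ((Nat.sub_le _ _).trans D.n_le_m)]
    obtain ⟨u, hu⟩ := hdiv k hkq
    have hmem : (D.a ^ k)⁻¹ ∈ ψ.range := inv_mem (by
      rw [hr]; exact Subgroup.mem_zpowers_iff.mpr ⟨u, by rw [hu, zpow_mul, ← zpow_natCast, Nat.cast_pow]⟩)
    obtain ⟨⟨y, hy⟩, hyx⟩ := hmem
    obtain ⟨x, rfl⟩ := Subgroup.mem_zpowers_iff.mp hy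
    exact ⟨x, hyx⟩
  have hmem : D.a ^ x * β ∈ Subgroup.centralizer (L : Set G) := by
    refine S.mem_centralizer.mpr ⟨((Commute.refl D.a).zpow_zpow _ _).mul_left hβa, ?_⟩
    have hac : Commute (D.a ^ x) (D.a ^ k) := (Commute.refl D.a).zpow_zpow _ _
    have e1 : g * D.a ^ x * g⁻¹ = (D.a ^ k)⁻¹ * D.a ^ x := mul_inv_eq_iff_eq_mul.mp hx
    have e2 : g * β * g⁻¹ = D.a ^ k * β := mul_inv_eq_iff_eq_mul.mp hk.symm
    have : g * (D.a ^ x * β) * g⁻¹ = D.a ^ x * β := by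
      calc g * (D.a ^ x * β) * g⁻¹ = (g * D.a ^ x * g⁻¹) * (g * β * g⁻¹) := by group
        _ = (D.a ^ k)⁻¹ * (D.a ^ x * D.a ^ k) * β := by rw [e1, e2]; group
        _ = (D.a ^ k)⁻¹ * (D.a ^ k * D.a ^ x) * β := by rw [hac.eq]
        _ = _ := by group
    exact (mul_inv_eq_iff_eq_mul.mp this).symm
  have hTt : T.t = D.n - S.f := by
    refine le_antisymm (pow_dvd_iff.mp (T.dvd _ _ hmem)) ?_
    have h1 := (commute_a D _ _ _).mp (S.mem_centralizer.mp T.mem_g).1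
    rw [← pow_add, pow_dvd_iff] at h1
    omega
  rw [T.card, hTf, hTt]

theorem Shape.card_mul_centralizer (h : Subgroup.center G ≤ L) :
    Nat.card L * Nat.card ↥(Subgroup.centralizer (L : Set G)) = p ^ (2 * (D.m + D.e - D.n)) := by
  rw [S.card, S.card_centralizer h, ← pow_add]
  obtain ⟨hf, ht, -⟩ := S.of_center_le h
  have := D.n_le_m
  have := D.n_le_e
  congr 1
  omega

theorem Shape.centralizer_le_of_not_comm (h : ¬ IsMulCommutative L) :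
    Subgroup.centralizer (L : Set G) ≤ L := by
  rw [S.isMulCommutative_iff] at h
  haveI := D.normal
  intro x hx
  obtain ⟨x1, y1, rfl⟩ := D.gen x
  obtain ⟨h1, h2⟩ := S.mem_centralizer.mp hx
  rw [commute_a, mul_pow_dvd_iff (by omega : S.f ≤ D.n)] at h1
  obtain ⟨q, hq⟩ := (pow_dvd_iff.mpr (by omega : S.t ≤ D.n - S.f)).trans h1
  set g := D.a ^ S.i * D.b ^ (P ^ S.t)
  have hmem : (D.a ^ x1 * D.b ^ y1) * (g ^ q)⁻¹ ∈ Subgroup.zpowers D.a := by
    rw [← QuotientGroup.eq_one_iff]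
    show QuotientGroup.mk' _ _ = 1
    rw [map_mul, map_inv, map_zpow, mk_eq, mk_eq, ← zpow_mul, hq, mul_inv_cancel]
  obtain ⟨k, hk⟩ := Subgroup.mem_zpowers_iff.mp hmem
  have h3 : Commute (D.a ^ k) g := hk ▸ h2.mul_left ((Commute.refl g).zpow_left q).inv_left
  have h4 := (commute_a D _ _ _).mp h3.symm
  rw [mul_comm, mul_pow_dvd_iff (by omega : S.t ≤ D.n)] at h4
  have : D.a ^ k ∈ L := (S.a_pow _).mpr ((pow_dvd_iff.mpr (by omega : S.f ≤ D.n - S.t)).trans h4)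
  rw [hk] at this
  exact (Subgroup.mul_mem_cancel_right L (inv_mem (zpow_mem S.mem_g q))).mp this

end Cfsg.Agent.Grp.Metacyclic
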